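import Cfsg.Agent.Lib.H5.Simple
import Cfsg.Agent.Lib.H3.Klein

/-!
# The principal block of a group with a Sylow subgroup of prime order
-/

set_option autoImplicit false
set_option linter.unusedSectionVars false

open MonoidAlgebra Cfsg Cfsg.Agent.H3 Subgroup
open scoped ComplexConjugate

namespace Cfsg.Agent.H5

variable {p : ℕ} [Fact p.Prime] {G : Type*} [Group G] [Finite G]

section Modular

variable {F : Type*} [Field F] [CharP F p] {P : Subgroup G}

open Classical in
/-- A linear character of a subgroup extended by zero. -/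
noncomputable def extz {N : Subgroup G} (α : N →* Fˣ) (g : G) : F :=
  if h : g ∈ N then (α ⟨g, h⟩ : F) else 0

omit [Finite G] in
theorem extz_coe {N : Subgroup G} (α : N →* Fˣ) (n : N) : extz α n = α n := dif_pos n.2

omit [Finite G] in
theorem extz_of_notMem {N : Subgroup G} (α : N →* Fˣ) {g : G} (hg : g ∉ N) : extz α g = 0 :=
  dif_neg hg

omit [Finite G] in
theorem extz_mul_left {N : Subgroup G} (α : N →* Fˣ) (n : N) (g : G) :
    extz α (n * g) = α n * extz α g := by
  by_cases hg : g ∈ N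
  · have h1 := extz_coe α (n * ⟨g, hg⟩)
    have h2 := extz_coe α ⟨g, hg⟩
    rw [map_mul, Units.val_mul] at h1
    exact h1.trans (congrArg _ h2.symm)
  · rw [extz_of_notMem α hg, extz_of_notMem α (by rwa [mul_mem_cancel_left n.2]), mul_zero]

omit [Finite G] in
theorem extz_mul_right {N : Subgroup G} (α : N →* Fˣ) (n : N) (g : G) :
    extz α (g * n) = extz α g * α n := by
  by_cases hg : g ∈ N
  · rw [extz_mul_left α ⟨g, hg⟩, extz_coe, extz_coe α ⟨g, hg⟩]
  · rw [extz_of_notMem α hg, extz_of_notMem α (by rwa [mul_mem_cancel_right n.2]), zero_mul]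

omit [Finite G] in
theorem extz_out {α : normalizer (P : Set G) →* Fˣ} (hα : ∀ n, n.1 ∈ P → α n = 1) (g : G) :
    extz α (g : G ⧸ P).out = extz α g := by
  obtain ⟨u, hu⟩ := QuotientGroup.mk_out_eq_mul P g
  rw [hu, extz_mul_right α ⟨u, le_normalizer u.2⟩, hα _ u.2, Units.val_one, mul_one]

theorem fixed_iff_out_mem (q : G ⧸ P) :
    (∀ u : P, u • q = q) ↔ q.out ∈ normalizer (P : Set G) := by
  rw [← Sylow.mem_fixedPoints_mul_left_cosets_iff_mem_normalizer, QuotientGroup.out_eq']
  rfl

theorem sum_extz_eq_zero [Fintype (G ⧸ P)] {α : normalizer (P : Set G) →* Fˣ}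
    (hα : ∀ n, n.1 ∈ P → α n = 1) (h : α ≠ 1) : ∑ q : G ⧸ P, extz α q.out = 0 := by
  obtain ⟨n, hn⟩ : ∃ n, α n ≠ 1 := by
    by_contra h'
    push Not at h'
    exact h (MonoidHom.ext h')
  have h1 : ∑ q : G ⧸ P, extz α q.out = α n * ∑ q : G ⧸ P, extz α q.out := by
    rw [Finset.mul_sum, ← Equiv.sum_comp (MulAction.toPerm (n : G))]
    refine Finset.sum_congr rfl fun q _ => ?_
    rw [← extz_mul_left, ← extz_out hα (n * q.out), MulAction.toPerm_apply,
      ← smul_eq_mul, MulAction.Quotient.coe_smul_out]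
  by_contra h0
  exact hn (Units.ext ((mul_eq_right₀ h0).1 h1.symm))

theorem sum_extz_one_ne_zero [Fintype (G ⧸ P)] (hP : IsPGroup p P) (hi : ¬ p ∣ P.index) :
    ∑ q : G ⧸ P, extz (1 : normalizer (P : Set G) →* Fˣ) q.out ≠ 0 := by
  classical
  have h := sum_eq_sum_fixed (CharP.cast_eq_zero F p) hP (X := G ⧸ P) (fun _ => (1 : F))
    fun _ _ => rfl
  have h1 : ∑ q : G ⧸ P, extz (1 : normalizer (P : Set G) →* Fˣ) q.out = P.index := by
    rw [index, Nat.card_eq_fintype_card, ← Finset.card_univ, Finset.cast_card, h]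
    refine Finset.sum_congr rfl fun q _ => ?_
    split_ifs with hq
    · exact extz_coe _ ⟨_, (fixed_iff_out_mem q).1 hq⟩
    · exact extz_of_notMem _ (mt (fixed_iff_out_mem q).2 hq)
  rwa [h1, Ne, CharP.cast_eq_zero_iff F p]

theorem eq_one_of_smul_eq {X : Type*} [MulAction P X] (hP : Nat.card P = p) {x : X}
    (hx : ¬ ∀ u : P, u • x = x) (u : P) (hu : u • x = x) : u = 1 := by
  have : Fact (Nat.card P).Prime := ⟨hP ▸ Fact.out⟩
  rcases (MulAction.stabilizer P x).eq_bot_or_eq_top_of_prime_card with h | h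
  · exact mem_bot.1 (h ▸ hu)
  · exact (hx fun v => (h ▸ mem_top v : v ∈ MulAction.stabilizer P x)).elim

/-- In a simple module, the fixed points of `P` modulo traces form an isotypic module for the
normalizer. -/
theorem mem_tr_of_ne [IsAlgClosed F] (hP : Nat.card P = p) (hi : ¬ p ∣ P.index) {T : Type*}
    [AddCommGroup T] [Module F T] [Module F[G] T] [IsScalarTower F F[G] T] [FiniteDimensional F T]
    [IsSimpleModule F[G] T] {α β : normalizer (P : Set G) →* Fˣ} (hα : ∀ n, n.1 ∈ P → α n = 1)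
    (hβ : ∀ n, n.1 ∈ P → β n = 1) (hne : α ≠ β) {w z : T}
    (hw : ∀ n : normalizer (P : Set G), single n.1 (1 : F) • w = (α n : F) • w)
    (hz : ∀ n : normalizer (P : Set G), single n.1 (1 : F) • z = (β n : F) • z)
    (hw' : ∀ t : T, setSum F (P : Set G) • t ≠ w) : ∃ t : T, setSum F (P : Set G) • t = z := by
  classical
  have := Fintype.ofFinite (G ⧸ P)
  have := Fintype.ofFinite P
  have hPp : IsPGroup p P := IsPGroup.of_card (n := 1) (by rw [hP, pow_one])
  let R : G →* Module.End F T :=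
    (Algebra.lsmul F F T : F[G] →ₐ[F] Module.End F T).toMonoidHom.comp (MonoidAlgebra.of F G)
  have hR : ∀ g t, R g t = single g (1 : F) • t := fun _ _ => rfl
  obtain ⟨x, hx⟩ := (isCyclic_of_prime_card hP).exists_monoid_generator
  have hw0 : w ≠ 0 := fun h => hw' 0 (by rw [h, smul_zero])
  have hnil : IsNilpotent (R x - 1) := by
    have := (isNilpotent_single_sub_one (F := F) (pElt_of_mem hPp x.2)).map
      (Algebra.lsmul F F T : F[G] →ₐ[F] Module.End F T)
    rwa [map_sub, map_one] at this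
  have hfix : ∀ {γ : normalizer (P : Set G) →* Fˣ} {y : T}, (∀ n, n.1 ∈ P → γ n = 1) →
      (∀ n : normalizer (P : Set G), single n.1 (1 : F) • y = (γ n : F) • y) →
      ∀ u : P, R u y = y := fun hγ hy u => by
    rw [hR, hy ⟨u, le_normalizer u.2⟩, hγ _ u.2, Units.val_one, one_smul]
  obtain ⟨φ, l, hφ, hl, hφ'⟩ := exists_comm_of_isNilpotent hnil hw0 (by
    rw [LinearMap.sub_apply, hfix hα hw, Module.End.one_apply, sub_self])
  have hcomm : ∀ u : P, Commute φ (R u) := fun u => by
    obtain ⟨k, rfl⟩ := hx u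
    have : Commute φ (R x) := by
      have h := (show Commute φ (R x - 1) from hφ).add_right (Commute.one_right φ)
      rwa [sub_add_cancel] at h
    simpa using this.pow_right k
  let Φ : G ⧸ P → Module.End F T := fun q => R q.out * φ * R q.out⁻¹
  have hΦ : ∀ g : G, Φ g = R g * φ * R g⁻¹ := fun g => by
    obtain ⟨u, hu⟩ := QuotientGroup.mk_out_eq_mul P g
    simp only [Φ]
    rw [hu, map_mul, mul_inv_rev, map_mul, mul_assoc (R g), ← (hcomm u).eq, mul_assoc, mul_assoc,
      ← mul_assoc (R u), ← map_mul, mul_inv_cancel, map_one, one_mul, mul_assoc]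
  have hΦs : ∀ (g : G) (q : G ⧸ P), Φ (g • q) = R g * Φ q * R g⁻¹ := fun g q => by
    rw [← MulAction.Quotient.coe_smul_out, hΦ, smul_eq_mul, mul_inv_rev, map_mul, map_mul]
    simp only [Φ, mul_assoc]
  have hsum : ∀ g, (∑ q, Φ q) * R g = R g * ∑ q, Φ q := fun g => by
    conv_lhs => rw [← Equiv.sum_comp (MulAction.toPerm g)]
    simp only [MulAction.toPerm_apply, hΦs, Finset.sum_mul, Finset.mul_sum, mul_assoc, ← map_mul,
      inv_mul_cancel, map_one, mul_one]
  let Ψ : Module.End F[G] T :=
    { toFun := fun t => (∑ q, Φ q : Module.End F T) t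
      map_add' := map_add (∑ q, Φ q : Module.End F T)
      map_smul' := fun a t => by
        induction a using MonoidAlgebra.induction_linear with
        | zero => simp
        | add a b ha hb => rw [add_smul, map_add, ha, hb, RingHom.id_apply, RingHom.id_apply,
            RingHom.id_apply, add_smul]
        | single g c =>
          have h1 : (single g c : F[G]) = c • single g 1 := by simp
          rw [RingHom.id_apply, h1, smul_assoc, smul_assoc, map_smul, ← hR, ← hR,
            ← Module.End.mul_apply, hsum, Module.End.mul_apply] }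
  obtain ⟨c, hc⟩ := (IsSimpleModule.algebraMap_end_bijective_of_isAlgClosed F
    (A := F[G]) (V := T)).2 Ψ
  have key : ∀ {γ : normalizer (P : Set G) →* Fˣ} {y : T}, (∀ n, n.1 ∈ P → γ n = 1) →
      (∀ n : normalizer (P : Set G), single n.1 (1 : F) • y = (γ n : F) • y) →
      ∃ t, c • y = (l y * ∑ q : G ⧸ P, extz (α / γ) q.out) • w + setSum F (P : Set G) • t := by
    intro γ y hγ hy
    obtain ⟨t, ht⟩ := exists_sum_eq_tr (P := P) (fun u => (R u).toAddMonoidHom) (fun q => Φ q y)
      (fun u q => by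
        have h1 := hfix hγ hy u⁻¹
        change Φ ((u : G) • q) y = _
        rw [hΦs, Module.End.mul_apply, Module.End.mul_apply, ← InvMemClass.coe_inv, h1]
        rfl)
      (Finset.univ.filter fun q : G ⧸ P => ¬ ∀ u : P, u • q = q)
      (fun u q hq => by
        simp only [Finset.mem_filter, Finset.mem_univ, true_and] at hq ⊢
        exact fun h => hq fun v => by
          have := h (u * v * u⁻¹)
          rwa [mul_smul, inv_smul_smul, mul_smul, smul_left_cancel_iff] at this)
      fun q hq => eq_one_of_smul_eq hP (Finset.mem_filter.1 hq).2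
    refine ⟨t, ?_⟩
    have h1 : c • y = ∑ q, Φ q y := by
      have := LinearMap.congr_fun hc y
      rw [Module.algebraMap_end_apply] at this
      rw [this]
      exact LinearMap.sum_apply _ _ _
    rw [h1, ← Finset.sum_filter_add_sum_filter_not Finset.univ fun q : G ⧸ P => ∀ u : P, u • q = q,
      ht, setSum_subgroup_eq_sum, Finset.sum_smul, Finset.mul_sum, Finset.sum_smul,
      Finset.sum_filter]
    congr 1
    refine Finset.sum_congr rfl fun q _ => ?_
    split_ifs with hq
    · have hq' := (fixed_iff_out_mem q).1 hq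
      have h2 := hy ⟨_, hq'⟩⁻¹
      have h3 := hφ' y (by rw [LinearMap.sub_apply, hfix hγ hy, Module.End.one_apply, sub_self])
      have h4 := extz_coe (α / γ) ⟨_, hq'⟩
      simp only [Φ, Module.End.mul_apply]
      rw [hR q.out⁻¹, ← InvMemClass.coe_inv ⟨_, hq'⟩, h2, map_smul, h3, map_smul, map_smul, hR,
        hw ⟨_, hq'⟩, h4, smul_smul, smul_smul]
      congr 1
      simp only [map_inv, MonoidHom.div_apply, Units.val_inv_eq_inv_val, Units.val_div_eq_div_val]
      ring
    · rw [extz_of_notMem _ (mt (fixed_iff_out_mem q).2 hq), mul_zero, zero_smul]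
  obtain ⟨t, ht⟩ := key hα hw
  obtain ⟨s, hs⟩ := key hβ hz
  rw [show α / α = 1 from MonoidHom.ext fun n => div_self' (α n), hl, one_mul] at ht
  rw [sum_extz_eq_zero (fun n hn => by simp [hα n hn, hβ n hn])
    (fun h => hne (MonoidHom.ext fun n => div_eq_one.1 (DFunLike.congr_fun h n))), mul_zero,
    zero_smul, zero_add] at hs
  have hc0 : c ≠ 0 := fun h => by
    have h1 := sum_extz_one_ne_zero (F := F) hPp hi
    rw [h, zero_smul, eq_comm, add_eq_zero_iff_eq_neg, ← eq_inv_smul_iff₀ h1] at ht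
    exact hw' (-((∑ q : G ⧸ P, extz (1 : normalizer (P : Set G) →* Fˣ) q.out)⁻¹ • t))
      (by rw [ht, smul_neg, smul_neg, smul_comm])
  exact ⟨c⁻¹ • s, by rw [smul_comm, ← hs, inv_smul_smul₀ hc0]⟩

theorem exists_eq_tr_mul {a : F[G]} (ha : ∀ u ∈ P, single u (1 : F) * a = a) :
    ∃ s, a = setSum F (P : Set G) * s := by
  have := Fintype.ofFinite G
  have := Fintype.ofFinite P
  obtain ⟨t, ht⟩ := exists_sum_eq_tr (P := P) (X := G)
    (fun u => AddMonoidHom.mulLeft (single (u : G) (1 : F))) (fun g => single g (a.coeff g))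
    (fun u g => by
      rw [AddMonoidHom.coe_mulLeft, single_mul_single, one_mul, Subgroup.smul_def, smul_eq_mul]
      congr 1
      conv_lhs => rw [← ha u u.2, coeff_single_mul_mul, one_mul])
    Finset.univ (fun _ _ _ => Finset.mem_univ _) fun g _ u hu =>
      Subtype.ext (mul_eq_right.1 hu)
  exact ⟨t, by rw [setSum_subgroup_eq_sum, Finset.sum_mul, eq_sum_single a, ht]; rfl⟩

/-- Existence of a simple module in the block `f` with a given character of the normalizer on the
fixed points of `P` modulo traces. -/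
theorem exists_maximal_of_char (hP : IsPGroup p P) (hPc : P ≤ centralizer (P : Set G))
    (hi : ¬ p ∣ P.index) (hP1 : p ∣ Nat.card P) {f : F[G]} (hf : f ∈ cen F G) (hff : f * f = f)
    [Fintype G] (hf1 : ∑ g, f.coeff g = 1) {α : normalizer (P : Set G) →* Fˣ}
    (hα : ∀ n, n.1 ∈ centralizer (P : Set G) → α n = 1) :
    ∃ m : Ideal F[G], m.IsMaximal ∧
      (∀ n : normalizer (P : Set G), single n.1 (1 : F) - algebraMap F F[G] (α n) ∈ m) ∧
      f - 1 ∈ m ∧ ∀ t, setSum F (P : Set G) * t - 1 ∉ m := by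
  classical
  have := Fintype.ofFinite (G ⧸ P)
  have := Fintype.ofFinite P
  have : IsArtinianRing F[G] := IsArtinianRing.of_finite F _
  have hα' : ∀ n, n.1 ∈ P → α⁻¹ n = 1 := fun n hn => by simp [hα n (hPc hn)]
  set η : F[G] := ofFun (extz α⁻¹) with hη
  set τ := setSum F (P : Set G) with hτ
  set κ : F[G] := ∑ q : G ⧸ P, single q.out (extz α⁻¹ q.out) with hκ
  set s := ∑ q : G ⧸ P, extz (1 : normalizer (P : Set G) →* Fˣ) q.out with hs
  have hs0 : s ≠ 0 := sum_extz_one_ne_zero hP hi
  have hκτ : κ * τ = η := ga_ext fun g => by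
    rw [hκ, Finset.sum_mul, coeff_sum', Finset.sum_eq_single (g : G ⧸ P)]
    · rw [coeff_single_mul_apply, hτ, coeff_setSum_of_mem, mul_one, extz_out hα', hη, coeff_ofFun]
      exact QuotientGroup.eq.1 (QuotientGroup.out_eq' _)
    · intro q _ hq
      rw [coeff_single_mul_apply, hτ, coeff_setSum_of_notMem, mul_zero]
      exact fun h => hq (by rw [← QuotientGroup.eq.2 h, QuotientGroup.out_eq'])
    · simp
  have hκw : ∀ w : F[G], (∀ n : normalizer (P : Set G), single n.1 (1 : F) * w = (α n : F) • w) →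
      κ * w = s • w := fun w hw => by
    rw [hκ, hs, Finset.sum_mul, Finset.sum_smul]
    refine Finset.sum_congr rfl fun q _ => ?_
    by_cases hq : q.out ∈ normalizer (P : Set G)
    · have h1 : (single q.out (extz α⁻¹ q.out) : F[G]) = extz α⁻¹ q.out • single q.out 1 := by simp
      rw [h1, smul_mul_assoc, hw ⟨_, hq⟩, extz_coe _ ⟨_, hq⟩, extz_coe _ ⟨_, hq⟩, smul_smul]
      simp
    · simp [extz_of_notMem _ hq]
  have hηl : ∀ n : normalizer (P : Set G), single n.1 (1 : F) * η = (α n : F) • η := fun n =>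
    ga_ext fun g => by
      rw [coeff_single_mul_apply, coeff_smul', hη, coeff_ofFun, coeff_ofFun, one_mul,
        ← InvMemClass.coe_inv, extz_mul_left]
      simp
  have hηr : ∀ u : P, η * single (u : G) (1 : F) = η := fun u => ga_ext fun g => by
    rw [coeff_mul_single_apply, hη, coeff_ofFun, coeff_ofFun, mul_one, ← InvMemClass.coe_inv,
      extz_mul_right _ ⟨_, le_normalizer u⁻¹.2⟩, hα' _ u⁻¹.2, Units.val_one, mul_one]
  suffices h : ∀ (W : Submodule F[G] F[G]) (w : F[G]), Submodule.span F[G] {w} = W →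
      (∃ a, w = a * η ∧ a * w = w) →
      (∀ n : normalizer (P : Set G), single n.1 (1 : F) * w = (α n : F) • w) → f * w = w →
      (∀ c, τ * c * η ≠ w) → ∃ m : Ideal F[G], m.IsMaximal ∧
      (∀ n : normalizer (P : Set G), single n.1 (1 : F) - algebraMap F F[G] (α n) ∈ m) ∧
      f - 1 ∈ m ∧ ∀ t, τ * t - 1 ∉ m by
    refine h _ (f * η) rfl ⟨f, rfl, by rw [← mul_assoc, hff]⟩ (fun n => ?_)
      (by rw [← mul_assoc, hff]) fun c hc => ?_
    · rw [← mul_assoc, ← cen_comm hf, mul_assoc, hηl, mul_smul_comm]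
    have h1 : (τ * c * η).coeff 1 = 0 := by
      have h2 : ∀ u : P, (c * η).coeff (u : G)⁻¹ = (c * η).coeff 1 := fun u => by
        conv_rhs => rw [← hηr u, ← mul_assoc, coeff_mul_single_apply, mul_one, one_mul]
      rw [mul_assoc, hτ, setSum_subgroup_eq_sum, Finset.sum_mul, coeff_sum']
      simp only [coeff_single_mul_apply, mul_one, one_mul, h2]
      rw [Finset.sum_const, Finset.card_univ, ← Nat.card_eq_fintype_card, nsmul_eq_mul,
        (CharP.cast_eq_zero_iff F p _).2 hP1, zero_mul]
    have h3 : (f * η).coeff 1 = 1 := by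
      rw [coeff_mul_left, sum_conj_invariant (CharP.cast_eq_zero F p) hP _ fun u hu g => ?_, ← hf1,
        sum_conj_invariant (CharP.cast_eq_zero F p) hP _ fun u _ g => mem_cen.1 hf g u]
      · refine Finset.sum_congr rfl fun g _ => ?_
        split_ifs with hg
        · have := extz_coe α⁻¹ ⟨g⁻¹, centralizer_le_normalizer _ (inv_mem hg)⟩
          rw [mul_one, hη, coeff_ofFun, this, MonoidHom.inv_apply, hα _ (inv_mem hg)]
          simp
        · rfl
      · have h4 : (u * g * u⁻¹)⁻¹ = u * g⁻¹ * u⁻¹ := by group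
        rw [mem_cen.1 hf, mul_one, mul_one, h4, hη, coeff_ofFun, coeff_ofFun,
          extz_mul_right _ ⟨_, le_normalizer (inv_mem hu)⟩, extz_mul_left _ ⟨_, le_normalizer hu⟩,
          hα' _ hu, hα' _ (inv_mem hu)]
        simp
    rw [hc, h3] at h1
    exact one_ne_zero h1
  intro W
  induction W using WellFoundedLT.induction with
  | ind W ih =>
    rintro w rfl ⟨a, ha, haw⟩ hw hfw hτw
    have hw0 : w ≠ 0 := fun h => hτw 0 (by rw [h, mul_zero, zero_mul])
    obtain ⟨m, hm, hle⟩ := Ideal.exists_le_maximal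
      (LinearMap.ker (LinearMap.toSpanSingleton F[G] F[G] w)) fun h => hw0 (by
        simpa using (h ▸ Submodule.mem_top :
          (1 : F[G]) ∈ LinearMap.ker (LinearMap.toSpanSingleton F[G] F[G] w)))
    have hann : ∀ c, c * w = 0 → c ∈ m := fun c hc => hle hc
    by_cases ht : ∀ t, τ * t - 1 ∉ m
    · refine ⟨m, hm, fun n => hann _ ?_, hann _ (by rw [sub_mul, hfw, one_mul, sub_self]), ht⟩
      rw [sub_mul, hw, ← Algebra.smul_def, sub_self]
    push Not at ht
    obtain ⟨t, ht⟩ := ht
    have h1 : w * (s⁻¹ • t) - 1 ∈ m := by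
      have e1 : w * (s⁻¹ • t) - 1 = (s⁻¹ • (a * κ)) * (τ * t - 1) +
          (s⁻¹ • a) * (κ - algebraMap F F[G] s) + (a - 1) := by
        rw [ha, ← hκτ, Algebra.algebraMap_eq_smul_one]
        simp only [mul_sub, smul_mul_assoc, mul_smul_comm, mul_one, mul_assoc, smul_sub,
          smul_smul, mul_inv_cancel₀ hs0, one_smul]
        abel
      rw [e1]
      refine add_mem (add_mem (m.mul_mem_left _ ht) (m.mul_mem_left _ (hann _ ?_))) (hann _ ?_)
      · rw [sub_mul, hκw w hw, ← Algebra.smul_def, sub_self]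
      · rw [sub_mul, haw, one_mul, sub_self]
    set t' := s⁻¹ • t
    have h2 : ¬ IsNilpotent (w * t') := by
      rintro ⟨n, hn⟩
      have h3 : ∀ k, (w * t') ^ k - 1 ∈ m := fun k => by
        induction k with
        | zero => simp
        | succ k ih =>
          have : (w * t') ^ (k + 1) - 1 = (w * t') ^ k * (w * t' - 1) + ((w * t') ^ k - 1) := by
            rw [pow_succ, mul_sub, mul_one]; abel
          rw [this]
          exact add_mem (m.mul_mem_left _ h1) ih
      have h4 := h3 n
      rw [hn, zero_sub, neg_mem_iff] at h4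
      exact hm.ne_top ((Ideal.eq_top_iff_one m).2 h4)
    obtain ⟨b, hb0, hb⟩ := exists_idem_of_not_isNilpotent (F := F) h2
    set ε := b * (w * t') with hε
    clear_value ε t'
    obtain ⟨y, hy⟩ : ∃ y, y = ε * b * w := ⟨_, rfl⟩
    have hyt : y * t' = ε := by rw [hy, mul_assoc, mul_assoc, ← hε, hb]
    have hεy : ε * y = y := by rw [hy, ← mul_assoc, ← mul_assoc, hb]
    have hy0 : y ≠ 0 := fun h => hb0 (by rw [← hyt, h, zero_mul])
    have hle' : Submodule.span F[G] {w - w * t' * y} ≤ Submodule.span F[G] {w} := by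
      rw [Submodule.span_singleton_le_iff_mem, Submodule.mem_span_singleton]
      exact ⟨1 - w * t' * ε * b, by rw [smul_eq_mul, sub_mul, one_mul, hy]; simp only [mul_assoc]⟩
    have hw't : (w - w * t' * y) * t' * y = 0 := by
      rw [sub_mul, sub_mul, mul_assoc _ y, hyt, mul_assoc _ ε, hεy, sub_self]
    refine ih _ (lt_of_le_of_ne hle' fun h => hy0 ?_) (w - w * t' * y) rfl
      ⟨a - w * t' * ε * b * a, ?_, ?_⟩ (fun n => ?_) ?_ fun c hc => ?_
    · have h3 : y ∈ Submodule.span F[G] {w - w * t' * y} :=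
        h ▸ Submodule.mem_span_singleton.2 ⟨ε * b, hy.symm⟩
      obtain ⟨c, hc⟩ := Submodule.mem_span_singleton.1 h3
      rw [← hεy, ← hyt]
      nth_rw 1 [← hc]
      rw [smul_eq_mul, mul_assoc c, mul_assoc c, hw't, mul_zero]
    · rw [sub_mul, mul_assoc _ a, ← ha, hy]; simp only [mul_assoc]
    · have h3 : a * (w - w * t' * y) = w - w * t' * y := by
        rw [mul_sub, ← mul_assoc, ← mul_assoc, haw]
      have h4 : ε * b * (w - w * t' * y) = 0 := by
        rw [mul_sub, ← hy, ← mul_assoc, ← mul_assoc, ← hy, hyt, hεy, sub_self]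
      rw [sub_mul, mul_assoc _ a, h3, mul_assoc (w * t') ε b, mul_assoc (w * t'), h4, mul_zero,
        sub_zero]
    · rw [mul_sub, ← mul_assoc, ← mul_assoc, hw, smul_sub, smul_mul_assoc, smul_mul_assoc]
    · rw [mul_sub, ← mul_assoc, ← mul_assoc, hfw]
    · obtain ⟨r, hr⟩ := exists_eq_tr_mul (P := P) (a := w * t') fun u hu => by
        rw [← mul_assoc, hw ⟨u, le_normalizer hu⟩, hα _ (hPc hu), Units.val_one, one_smul]
      refine hτw (c + r * ε * b * a) ?_
      rw [mul_add, add_mul, hc, hr, hy, ← hτ, sub_add_eq_add_sub, sub_eq_iff_eq_add]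
      nth_rw 3 [ha]
      simp only [mul_assoc]

end Modular

end Cfsg.Agent.H5
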