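import Cfsg.Agent.Lib.H5.OrderP

/-!
# The principal block of a group with a Sylow subgroup of prime order, II
-/

set_option autoImplicit false
set_option linter.unusedSectionVars false

open MonoidAlgebra Cfsg Cfsg.Agent.H3 Subgroup
open scoped ComplexConjugate

namespace Cfsg.Agent.H5

variable {p : ℕ} [Fact p.Prime] {G : Type*} [Group G] [Finite G]

section Modular

variable {F : Type*} [Field F] [CharP F p] [IsAlgClosed F] {P : Subgroup G}

theorem card_autE_hom (hP : Nat.card P = p) (h : FreeAb p P) :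
    Nat.card (autE P →* Fˣ) = Nat.card (autE P) := by
  have : IsCyclic P := isCyclic_of_prime_card hP
  obtain ⟨S, rfl⟩ := h.syl
  have h1 := not_dvd_relIndex_centralizer S h.comm
  rw [← card_autE] at h1
  let inst : CommGroup (autE (S : Subgroup G)) :=
    ((IsCyclic.mulAutMulEquiv S).toMonoidHom.comp (autE (S : Subgroup G)).subtype).commGroupOfInjective
      ((IsCyclic.mulAutMulEquiv S).injective.comp Subtype.val_injective)
  have : NeZero ((Monoid.exponent (autE (S : Subgroup G)) : ℕ) : F) :=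
    ⟨fun h0 => h1 (((CharP.cast_eq_zero_iff F p _).1 h0).trans Group.exponent_dvd_nat_card)⟩
  exact CommGroup.card_monoidHom_of_hasEnoughRootsOfUnity (autE (S : Subgroup G)) F

theorem exists_simple_family (hP : Nat.card P = p) (h : FreeAb p P) {f : F[G]} (hf : f ∈ cen F G)
    (hff : f * f = f) [Fintype G] (hf1 : ∑ g, f.coeff g = 1) :
    ∃ z : (autE P →* Fˣ) → F[G], LinearIndependent F z ∧ ∀ a, z a ∈ cen F G ∧ f * z a = z a ∧
      ∀ g, (z a).coeff (pPart' p g) = (z a).coeff g := by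
  have hPc : P ≤ centralizer (P : Set G) := fun a ha =>
    mem_centralizer_iff.2 fun b hb => h.comm b hb a ha
  have hi : ¬ p ∣ P.index := by
    obtain ⟨S, rfl⟩ := h.syl
    exact S.not_dvd_index
  let α : (autE P →* Fˣ) → (normalizer (P : Set G) →* Fˣ) := fun a =>
    a.comp P.normalizerMonoidHom.rangeRestrict
  have hα : ∀ a n, n.1 ∈ centralizer (P : Set G) → α a n = 1 := fun a n hn => by
    have : P.normalizerMonoidHom.rangeRestrict n = 1 := Subtype.ext (by
      have : n ∈ P.normalizerMonoidHom.ker := by rwa [normalizerMonoidHom_ker]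
      exact this)
    exact (congrArg a this).trans (map_one a)
  have hinj : Function.Injective α := fun a b hab => MonoidHom.ext fun σ => by
    obtain ⟨n, rfl⟩ := P.normalizerMonoidHom.rangeRestrict_surjective σ
    exact DFunLike.congr_fun hab n
  choose m hm hm1 hm2 hm3 using fun a =>
    exists_maximal_of_char h.isPGroup hPc hi (hP ▸ dvd_rfl) hf hff hf1 (hα a)
  have hs : ∀ a, IsSimpleModule F[G] (F[G] ⧸ m a) := fun a =>
    isSimpleModule_iff_isCoatom.2 (hm a).out
  have hmk : ∀ a (c : F[G]), c • (Submodule.Quotient.mk 1 : F[G] ⧸ m a) =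
      Submodule.Quotient.mk c := fun a c => by
    rw [← Submodule.Quotient.mk_smul, smul_eq_mul, mul_one]
  have hw : ∀ a (n : normalizer (P : Set G)), single n.1 (1 : F) •
      (Submodule.Quotient.mk 1 : F[G] ⧸ m a) = (α a n : F) • Submodule.Quotient.mk 1 := fun a n => by
    rw [hmk, ← Submodule.Quotient.mk_smul, Submodule.Quotient.eq,
      ← Algebra.algebraMap_eq_smul_one]
    exact hm1 a n
  have hτ : ∀ a (t : F[G] ⧸ m a), setSum F (P : Set G) • t ≠ Submodule.Quotient.mk 1 := by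
    intro a t ht
    obtain ⟨t, rfl⟩ := Submodule.Quotient.mk_surjective _ t
    rw [← Submodule.Quotient.mk_smul, Submodule.Quotient.eq] at ht
    exact hm3 a t ht
  refine ⟨fun a => trcElt (F[G] ⧸ m a), linearIndependent_trcElt _ fun a b hab φ => ?_,
    fun a => ⟨trcElt_mem_cen _, mul_trcElt _ fun t => ?_, coeff_trcElt_pPart' _⟩⟩
  · refine φ.bijective_or_eq_zero.resolve_left fun hφ => ?_
    obtain ⟨t, ht⟩ := mem_tr_of_ne hP hi (fun n hn => hα a n (hPc hn)) (fun n hn => hα b n (hPc hn))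
      (hinj.ne hab) (w := φ (Submodule.Quotient.mk 1))
      (fun n => by rw [← map_smul, hw, LinearMap.map_smul_of_tower]) (hw b) fun t ht => by
        obtain ⟨t, rfl⟩ := hφ.2 t
        exact hτ a t (hφ.1 (by rw [map_smul, ht]))
    exact hτ b t ht
  · obtain ⟨t, rfl⟩ := Submodule.Quotient.mk_surjective _ t
    rw [← Submodule.Quotient.mk_smul, Submodule.Quotient.eq, smul_eq_mul, cen_comm hf]
    have := (m a).mul_mem_left t (hm2 a)
    rwa [mul_sub, mul_one] at this

end Modular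

variable {M : Ideal AlgInt} [PMod p M] {P : Subgroup G}

theorem card_principal_ge (hP : Nat.card P = p) (h : FreeAb p P) {t : ℕ}
    (ht : t * Nat.card (autE P) + 1 = Nat.card P) :
    Nat.card (autE P) + t ≤ Nat.card (principalBlock M G) := by
  classical
  have := Fintype.ofFinite G
  have := Fintype.ofFinite P
  have hB := blk_idem_mem (isPBlock_principal (M := M) (G := G))
  have hf1 : ∑ g, (red M (blockIdem (principalBlock M G))).coeff g = 1 := by
    have h1 := om_blockIdem_of_mem (triv_mem_principal (M := M) (G := G))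
    rw [om_eq, ev_eq_sum] at h1
    simp only [trivChar_apply, mul_one, div_one] at h1
    simp only [coeff_red]
    rw [← res_sum _ fun g _ => mem_OG.1 (ZO.og hB) g, h1, res_one]
  obtain ⟨z, hz, hz'⟩ := exists_simple_family hP h (red_mem_cen (ZO.cen hB))
    (red_blockIdem_mul_self (ZO.og hB)) hf1
  let I : Finset (ConjClasses G) :=
    (Finset.univ.erase (1 : P)).image fun u : P => ConjClasses.mk (u : G)
  have hI : ∀ i : I, ∃ u : P, u ≠ 1 ∧ ConjClasses.mk (u : G) = i := fun i => by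
    obtain ⟨u, hu, hu'⟩ := Finset.mem_image.1 i.2
    exact ⟨u, (Finset.mem_erase.1 hu).1, hu'⟩
  choose u hu1 hu using hI
  have hIc : I.card = t := by
    have e1 := Finset.card_eq_sum_card_image (fun u : P => ConjClasses.mk (u : G))
      (Finset.univ.erase (1 : P))
    have e2 : ∀ i ∈ I, ((Finset.univ.erase (1 : P)).filter
        fun v : P => ConjClasses.mk (v : G) = i).card = Nat.card (autE P) := by
      intro i hi
      have e3 := h.sum_isConj (hu1 ⟨i, hi⟩) fun _ => (1 : ℕ)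
      rw [Finset.sum_const, Finset.card_univ, smul_eq_mul, mul_one,
        ← Nat.card_eq_fintype_card] at e3
      rw [← e3, Finset.card_filter, ← Finset.add_sum_erase _ _ (Finset.mem_univ (1 : P)),
        if_neg fun h' : IsConj ((1 : P) : G) _ => hu1 _ (Subtype.ext (isConj_one_right.1 h')),
        zero_add]
      refine Finset.sum_congr rfl fun v _ => ?_
      have e4 : ConjClasses.mk (v : G) = i ↔ IsConj (v : G) (u ⟨i, hi⟩) := by
        rw [← ConjClasses.mk_eq_mk_iff_isConj, hu]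
      simp only [e4]
      congr
    rw [Finset.sum_congr rfl e2, Finset.sum_const, smul_eq_mul,
      Finset.card_erase_of_mem (Finset.mem_univ _), Finset.card_univ,
      ← Nat.card_eq_fintype_card] at e1
    have e5 : 0 < Nat.card (autE P) := Nat.card_pos
    have e6 : I.card * Nat.card (autE P) = t * Nat.card (autE P) := by
      omega
    exact Nat.eq_of_mul_eq_mul_right e5 e6
  let s : I → (resField M)[G] := fun i =>
    red M (blockIdem (principalBlock M G) * classSum ℂ (u i : G))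
  have hne : ∀ i, (u i : G) ≠ 1 := fun i h => hu1 i (Subtype.ext h)
  have hs1 : ∀ i, (s i).coeff 1 = 0 := fun i => by
    have h1 := congrArg conj (h.sum_principal (M := M) (u i).2 (hne i) 1)
    rw [if_neg (by
      rw [pPart_eq_one_iff.2 pReg_one]; exact fun h => hne i (isConj_one_left.1 h)), map_sum] at h1
    simp only [map_mul, Complex.conj_conj, map_zero] at h1
    simp only [s, coeff_red, coeff_blockIdem_mul_classSum]
    rw [Finset.sum_congr rfl fun χ _ => mul_comm _ _, h1, mul_zero, res_zero]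
  have hs2 : ∀ i j, (s i).coeff (u j) ≠ 0 ↔ i = j := fun i j => by
    simp only [s, coeff_red, coeff_blockIdem_mul_classSum]
    have e4 : IsConj (u j : G) (u i) ↔ j = i := by
      rw [← ConjClasses.mk_eq_mk_iff_isConj, hu, hu, ← Subtype.ext_iff]
    rw [h.sum_principal (u j).2 (hne j), pPart_of_pElt (pElt_of_mem h.isPGroup (u i).2)]
    simp only [e4]
    split_ifs with hij
    · subst hij
      simp only [iff_true]
      rw [← div_eq_inv_mul, res_natCast_div_ne_zero_iff Nat.card_pos.ne' Nat.card_pos.ne']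
      obtain ⟨S, rfl⟩ := h.syl
      have h1 := congrArg (fun n => n.factorization p)
        (centralizer ({(u j : G)} : Set G)).card_mul_index
      simp only [Nat.factorization_mul Nat.card_pos.ne' FiniteIndex.index_ne_zero,
        Finsupp.add_apply, Nat.factorization_eq_zero_of_not_dvd (h.not_dvd_index (u j).2),
        add_zero] at h1
      rw [h1, S.card_eq_multiplicity, Nat.factorization_pow_self Fact.out]
    · simp [res_zero, Ne.symm hij]
  have key := card_le_card_block (ZO.og hB) (Sum.elim z s) (fun i => ?_) (fun i => ?_) ?_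
  · rwa [Nat.card_sum, card_autE_hom hP h, Nat.card_eq_fintype_card (α := I), Fintype.card_coe,
      hIc] at key
  · rcases i with i | i
    · exact (hz' i).1
    · exact red_mem_cen (mul_mem (ZO.cen hB) (classSum_mem_cen _))
  · rcases i with i | i
    · exact (hz' i).2.1
    · simp only [s, Sum.elim_inr]
      rw [← red_mul (ZO.og hB) (mul_mem (ZO.og hB) (ZO.og (classSum_mem_ZO _))), ← mul_assoc, blockIdem_mul_self]
  · have : Fintype (autE P →* (resField M)ˣ) := Fintype.ofFinite _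
    rw [Fintype.linearIndependent_iff]
    intro c hc
    rw [Fintype.sum_sum_type] at hc
    simp only [Sum.elim_inl, Sum.elim_inr] at hc
    have h2 : ∀ j, c (Sum.inr j) = 0 := fun j => by
      have e1 := congrArg (fun a => a.coeff (u j : G)) hc
      have e2 := congrArg (fun a => a.coeff 1) hc
      have e3 : ∀ a, (z a).coeff (u j : G) = (z a).coeff 1 := fun a => by
        rw [← (hz' a).2.2, pPart'_eq_one_iff.2 (pElt_of_mem h.isPGroup (u j).2)]
      simp only [coeff_add', coeff_sum', coeff_smul', hs1, e3, mul_zero, Finset.sum_const_zero,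
        add_zero] at e1 e2
      rw [e2, Finset.sum_eq_single j (fun i _ hi => by
        rw [not_not.1 (mt (hs2 i j).1 hi), mul_zero]) (by simp)] at e1
      simpa [(hs2 j j).2 rfl] using e1
    simp only [h2, zero_smul, Finset.sum_const_zero, add_zero] at hc
    rintro (i | i)
    · exact Fintype.linearIndependent_iff.1 hz _ hc i
    · exact h2 i

theorem freeAb_of_card (P : Sylow p G) (hP : Nat.card P = p) : FreeAb p (P : Subgroup G) := by
  have hc : IsCyclic (P : Subgroup G) := isCyclic_of_prime_card hP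
  have : Fact (Nat.card (P : Subgroup G)).Prime := ⟨by rw [show Nat.card (P : Subgroup G) = p from hP]; exact Fact.out⟩
  refine ⟨⟨P, rfl⟩, fun a ha b hb => ?_, fun z hz hz1 n _ hn => ?_⟩
  · obtain ⟨x, hx⟩ := hc.exists_generator
    obtain ⟨i, hi⟩ := hx ⟨a, ha⟩
    obtain ⟨j, hj⟩ := hx ⟨b, hb⟩
    have := (Commute.refl x).zpow_zpow i j
    simp only [hi, hj] at this
    exact congrArg Subtype.val this.eq
  · rw [mem_centralizer_iff]
    intro a ha
    obtain ⟨i, hi⟩ := mem_zpowers_of_prime_card (p := Nat.card (P : Subgroup G)) rfl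
      (g := ⟨z, hz⟩) (g' := ⟨a, ha⟩) fun h => hz1 (congrArg Subtype.val h)
    have h1 : z ^ i = a := congrArg Subtype.val hi
    rw [← h1]
    exact ((show Commute z n from hn.symm).zpow_left i).eq

theorem one_le_sq_of_ne {d : ℤ} (hd : d ≠ 0) : 1 ≤ d ^ 2 := by
  have := sq_pos_of_ne_zero hd
  omega

theorem eq_one_of_sum_sq {ι : Type*} {s : Finset ι} {d : ι → ℤ} (hd : ∀ i ∈ s, d i ≠ 0)
    (h : ∑ i ∈ s, d i ^ 2 ≤ s.card) : ∀ i ∈ s, d i = 1 ∨ d i = -1 := by
  have h1 : ∑ i ∈ s, (1 : ℤ) = ∑ i ∈ s, d i ^ 2 :=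
    le_antisymm (Finset.sum_le_sum fun i hi => one_le_sq_of_ne (hd i hi)) (by simpa using h)
  intro i hi
  exact sq_eq_one_iff_of_ne_zero_aux ((Finset.sum_eq_sum_iff_of_le
    fun i hi => one_le_sq_of_ne (hd i hi)).1 h1 i hi).symm
where sq_eq_one_iff_of_ne_zero_aux {x : ℤ} (h : x ^ 2 = 1) : x = 1 ∨ x = -1 :=
  sq_eq_one_iff.1 h

theorem card_le_sum_sq {ι : Type*} {s : Finset ι} {d : ι → ℤ} (hd : ∀ i ∈ s, d i ≠ 0) :
    (s.card : ℤ) ≤ ∑ i ∈ s, d i ^ 2 := by
  simpa using Finset.sum_le_sum (f := fun _ => (1 : ℤ)) fun i hi => one_le_sq_of_ne (hd i hi)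

theorem degree_modEq {χ : IrrCharacter G} {k d : ℤ} (h : (χ : G → ℂ) 1 = k * p + d) :
    (charDegree (χ : G → ℂ) : ℤ) ≡ d [ZMOD p] := by
  rw [← irr_charDegree] at h
  have : (charDegree (χ : G → ℂ) : ℤ) = k * p + d := by exact_mod_cast h
  rw [this]
  exact Int.modEq_iff_dvd.2 ⟨-k, by ring⟩

/-- Brauer's theorem on the principal block for a Sylow subgroup of prime order. -/
theorem principal_of_card_eq (hP : Nat.card P = p) (h : FreeAb p P) :
    ∃ t : ℕ, t * Nat.card (autE P) + 1 = p ∧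
      Nat.card (principalBlock M G) = Nat.card (autE P) + t ∧ ∀ χ ∈ principalBlock M G,
      (charDegree (χ : G → ℂ) : ℤ) ≡ 1 [ZMOD p] ∨ (charDegree (χ : G → ℂ) : ℤ) ≡ -1 [ZMOD p] ∨
      (charDegree (χ : G → ℂ) : ℤ) ≡ Nat.card (autE P) [ZMOD p] ∨
      (charDegree (χ : G → ℂ) : ℤ) ≡ -(Nat.card (autE P) : ℤ) [ZMOD p] := by
  classical
  have := Fintype.ofFinite G
  have := Fintype.ofFinite P
  have hp1 : 1 < Nat.card P := hP ▸ (Fact.out : p.Prime).one_lt
  have : Nontrivial P := Finite.one_lt_card_iff_nontrivial.1 hp1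
  obtain ⟨u, hu⟩ := exists_ne (1 : P)
  obtain ⟨l₀, hl₀⟩ : ∃ l, l ≠ trivChar P := by
    by_contra h'
    push Not at h'
    have h1 := h.sum_irr_erase 1
    rw [Finset.sum_eq_zero fun l hl => by simp [h' l] at hl, if_pos rfl,
      eq_comm, sub_eq_zero] at h1
    exact hp1.ne' (by exact_mod_cast h1)
  obtain ⟨ε, a, X, μ, d, hε, hX, hXμ, hμ, hμ', hd, hsum⟩ := h.exc (M := M) hl₀
  have hge := card_principal_ge (M := M) hP h hX
  refine ⟨X.card, hX.trans hP, ?_⟩
  set e := Nat.card (autE P)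
  rw [← card_fs] at hge ⊢
  have hconst : ∀ χ ∈ principalBlock M G, ∀ c : ℤ,
      (∀ l, l ≠ trivChar P → classInner (dl M P l) χ = c) →
      c ≠ 0 ∧ (charDegree (χ : G → ℂ) : ℤ) ≡ c [ZMOD p] := fun χ hχ c hc => by
    obtain ⟨h1, m, h2⟩ := h.irr_apply_of_const hχ hc
    refine ⟨fun h0 => apply_ne_zero_of_mem_principal hχ (h.not_dvd_index u.2) ?_,
      degree_modEq (k := m - c) ?_⟩
    · rw [h1 u hu, h0, Int.cast_zero]
    · rw [h2, hP]; push_cast; rfl
  have hd0 : ∀ χ, χ ∉ X → χ ∉ principalBlock M G → d χ = 0 := fun χ h1 h2 => by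
    have := hd χ h1 l₀ hl₀
    rw [classInner_dl_of_notMem _ h2] at this
    exact_mod_cast this.symm
  have hsd : ∑ χ ∈ Xᶜ, d χ ^ 2 = ∑ χ ∈ fs (principalBlock M G) \ X, d χ ^ 2 := by
    symm
    refine Finset.sum_subset (fun χ hχ => Finset.mem_compl.2 (Finset.mem_sdiff.1 hχ).2)
      fun χ h1 h2 => ?_
    rw [hd0 χ (Finset.mem_compl.1 h1) fun h3 => h2 (Finset.mem_sdiff.2
      ⟨mem_fs.2 h3, Finset.mem_compl.1 h1⟩)]
    rfl
  have hd1 : ∀ χ ∈ fs (principalBlock M G) \ X,
      d χ ≠ 0 ∧ (charDegree (χ : G → ℂ) : ℤ) ≡ d χ [ZMOD p] := fun χ hχ =>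
    hconst χ (mem_fs.1 (Finset.mem_sdiff.1 hχ).1) _ (hd χ (Finset.mem_sdiff.1 hχ).2)
  have hle := card_le_sum_sq fun χ hχ => (hd1 χ hχ).1
  have hsplit := Finset.card_sdiff_add_card_inter (fs (principalBlock M G)) X
  have hint : (fs (principalBlock M G) ∩ X).card ≤ X.card :=
    Finset.card_le_card Finset.inter_subset_right
  rw [hsd] at hsum
  have hfin : ∑ χ ∈ fs (principalBlock M G) \ X, d χ ^ 2 ≤ (fs (principalBlock M G) \ X).card →
      (∀ χ ∈ principalBlock M G, χ ∈ X →
      (charDegree (χ : G → ℂ) : ℤ) ≡ 1 [ZMOD p] ∨ (charDegree (χ : G → ℂ) : ℤ) ≡ -1 [ZMOD p] ∨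
      (charDegree (χ : G → ℂ) : ℤ) ≡ e [ZMOD p] ∨ (charDegree (χ : G → ℂ) : ℤ) ≡ -(e : ℤ) [ZMOD p]) →
      ∀ χ ∈ principalBlock M G,
      (charDegree (χ : G → ℂ) : ℤ) ≡ 1 [ZMOD p] ∨ (charDegree (χ : G → ℂ) : ℤ) ≡ -1 [ZMOD p] ∨
      (charDegree (χ : G → ℂ) : ℤ) ≡ e [ZMOD p] ∨
      (charDegree (χ : G → ℂ) : ℤ) ≡ -(e : ℤ) [ZMOD p] := fun h1 h2 χ hχ => by
    by_cases hχX : χ ∈ X
    · exact h2 χ hχ hχX
    have h3 := Finset.mem_sdiff.2 ⟨mem_fs.2 hχ, hχX⟩
    have h4 := (hd1 χ h3).2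
    rcases eq_one_of_sum_sq (fun χ hχ => (hd1 χ hχ).1) h1 χ h3 with h5 | h5 <;> rw [h5] at h4
    · exact Or.inl h4
    · exact Or.inr (Or.inl h4)
  have hX0 : 0 < X.card := Finset.card_pos.2 ⟨_, (hXμ _).2 ⟨l₀, hl₀, rfl⟩⟩
  rcases (Nat.succ_le_of_lt hX0).eq_or_lt with ht | ht
  · obtain ⟨χ₀, hχ₀⟩ := Finset.card_eq_one.1 ht.symm
    have hμ0 : ∀ l, l ≠ trivChar P → μ l = χ₀ := fun l hl =>
      Finset.mem_singleton.1 (hχ₀ ▸ (hXμ _).2 ⟨l, hl, rfl⟩)
    have h1 : ∀ l, l ≠ trivChar P → classInner (dl M P l) χ₀ = ((a + ε : ℤ) : ℂ) := fun l hl => by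
      rw [← hμ0 l hl, hμ' l l hl hl, if_pos rfl]
    have h2 : X.card * a ^ 2 + 2 * ε * a = (a + ε) ^ 2 - 1 := by
      rw [← ht]; rcases hε with rfl | rfl <;> push_cast <;> ring
    by_cases hχ : χ₀ ∈ principalBlock M G
    · obtain ⟨h3, h4⟩ := hconst χ₀ hχ _ h1
      have h5 := one_le_sq_of_ne h3
      refine ⟨by omega, hfin (by omega) fun χ _ hχX => ?_⟩
      rw [hχ₀, Finset.mem_singleton] at hχX
      subst hχX
      rcases sq_eq_one_iff.1 (show (a + ε) ^ 2 = 1 by omega) with h6 | h6 <;> rw [h6] at h4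
      · exact Or.inl h4
      · exact Or.inr (Or.inl h4)
    · have h3 : (fs (principalBlock M G) ∩ X).card = 0 := by
        rw [Finset.card_eq_zero, hχ₀, Finset.inter_singleton_of_notMem (mt mem_fs.1 hχ)]
      have h5 := sq_nonneg (a + ε)
      refine ⟨by omega, hfin (by omega) fun χ hχ' hχX => ?_⟩
      rw [hχ₀, Finset.mem_singleton] at hχX
      exact (hχ (hχX ▸ hχ')).elim
  · have ht' : (2 : ℤ) ≤ X.card := by exact_mod_cast ht
    have h1 : 0 ≤ a * (a + ε) := by
      rcases lt_trichotomy a 0 with h | h | h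
      · exact mul_nonneg_of_nonpos_of_nonpos h.le (by omega)
      · simp [h]
      · exact mul_nonneg h.le (by omega)
    have h2 : 0 ≤ (X.card - 2) * a ^ 2 := mul_nonneg (by omega) (sq_nonneg _)
    have h3 : X.card * a ^ 2 + 2 * ε * a = (X.card - 2) * a ^ 2 + 2 * (a * (a + ε)) := by ring
    refine ⟨by omega, hfin (by omega) fun χ hχ hχX => ?_⟩
    obtain ⟨l, hl, rfl⟩ := (hXμ _).1 hχX
    obtain ⟨-, m, hm⟩ := h.irr_apply_of_exc hχ (a := a) (ε := ε) hl fun l' hl' => by
      rw [hμ' l' l hl' hl]; split_ifs <;> simp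
    have h4 := degree_modEq (p := p) (χ := μ l) (k := m - a) (d := a - ε * e)
      (by rw [hm, hP]; push_cast; ring)
    have h5 : a * (a + ε) = 0 := by omega
    have h6 : (X.card - 2) * a ^ 2 = 0 := by omega
    have hpe : (X.card : ℤ) * e + 1 = p := by rw [← hP]; exact_mod_cast hX
    by_cases ha : a = 0
    · rcases hε with rfl | rfl
      · exact Or.inr (Or.inr (Or.inr (by simpa [ha] using h4)))
      · exact Or.inr (Or.inr (Or.inl (by simpa [ha] using h4)))
    have h7 : (X.card : ℤ) = 2 := by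
      have := (mul_eq_zero.1 h6).resolve_right (pow_ne_zero 2 ha)
      omega
    have h8 : a = -ε := by
      have := (mul_eq_zero.1 h5).resolve_left ha
      omega
    rw [h7] at hpe
    rcases hε with rfl | rfl
    · exact Or.inr (Or.inr (Or.inl (h4.trans (Int.modEq_iff_dvd.2 ⟨1, by rw [← hpe, h8]; ring⟩))))
    · exact Or.inr (Or.inr (Or.inr (h4.trans (Int.modEq_iff_dvd.2 ⟨-1, by rw [← hpe, h8]; ring⟩))))

end Cfsg.Agent.H5
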